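import Cfsg.Agent.Spor.O351.D0

set_option autoImplicit false
set_option maxRecDepth 100000000
set_option Elab.async false

namespace Cfsg.Agent.Spor.O351

theorem ok0 : Net.okb 9 n0 = true := by decide +kernel

theorem ok1 : Net.okb 9 n1 = true := by decide +kernel

theorem ok2 : Net.okb 9 n2 = true := by decide +kernel

theorem ok3 : Net.okb 9 n3 = true := by decide +kernel

theorem ok4 : Net.okb 9 n4 = true := by decide +kernel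

theorem ok5 : Net.okb 9 n5 = true := by decide +kernel

theorem ok6 : Net.okb 9 n6 = true := by decide +kernel

theorem ok7 : Net.okb 9 n7 = true := by decide +kernel

theorem ok8 : Net.okb 9 n8 = true := by decide +kernel

theorem rel0 : T.rel 9 [1, 1] 0 9 = true := by decide +kernel

theorem rel1 : T.rel 9 [2, 2] 0 9 = true := by decide +kernel

theorem rel2 : T.rel 9 [3, 3] 0 9 = true := by decide +kernel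

theorem rel3 : T.rel 9 [4, 4] 0 9 = true := by decide +kernel

theorem rel4 : T.rel 9 [5, 5] 0 9 = true := by decide +kernel

theorem rel5 : T.rel 9 [6, 6] 0 9 = true := by decide +kernel

theorem rel6 : T.rel 9 [7, 7] 0 9 = true := by decide +kernel

theorem rel7 : T.rel 9 [8, 8] 0 9 = true := by decide +kernel

theorem rel8 : T.rel 9 [9, 2, 1, 3, 2, 4, 3, 7, 3, 4, 2, 3, 1, 2] 0 9 = true := by decide +kernel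

theorem rel9 : T.rel 9 [2, 1, 2, 1, 2, 1] 0 9 = true := by decide +kernel

theorem rel10 : T.rel 9 [3, 1, 3, 1] 0 9 = true := by decide +kernel

theorem rel11 : T.rel 9 [4, 1, 4, 1] 0 9 = true := by decide +kernel

theorem rel12 : T.rel 9 [5, 1, 5, 1] 0 9 = true := by decide +kernel

theorem rel13 : T.rel 9 [6, 1, 6, 1] 0 9 = true := by decide +kernel

theorem rel14 : T.rel 9 [7, 1, 7, 1] 0 9 = true := by decide +kernel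

theorem rel15 : T.rel 9 [8, 1, 8, 1] 0 9 = true := by decide +kernel

theorem rel16 : T.rel 9 [3, 2, 3, 2, 3, 2] 0 9 = true := by decide +kernel

theorem rel17 : T.rel 9 [4, 2, 4, 2] 0 9 = true := by decide +kernel

theorem rel18 : T.rel 9 [5, 2, 5, 2] 0 9 = true := by decide +kernel

theorem rel19 : T.rel 9 [6, 2, 6, 2] 0 9 = true := by decide +kernel

theorem rel20 : T.rel 9 [7, 2, 7, 2] 0 9 = true := by decide +kernel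

theorem rel21 : T.rel 9 [8, 2, 8, 2] 0 9 = true := by decide +kernel

theorem rel22 : T.rel 9 [4, 3, 4, 3, 4, 3] 0 9 = true := by decide +kernel

theorem rel23 : T.rel 9 [5, 3, 5, 3] 0 9 = true := by decide +kernel

theorem rel24 : T.rel 9 [6, 3, 6, 3] 0 9 = true := by decide +kernel

theorem rel25 : T.rel 9 [7, 3, 7, 3, 7, 3] 0 9 = true := by decide +kernel

theorem rel26 : T.rel 9 [8, 3, 8, 3] 0 9 = true := by decide +kernel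

theorem rel27 : T.rel 9 [5, 4, 5, 4, 5, 4] 0 9 = true := by decide +kernel

theorem rel28 : T.rel 9 [6, 4, 6, 4] 0 9 = true := by decide +kernel

theorem rel29 : T.rel 9 [7, 4, 7, 4] 0 9 = true := by decide +kernel

theorem rel30 : T.rel 9 [8, 4, 8, 4] 0 9 = true := by decide +kernel

theorem rel31 : T.rel 9 [6, 5, 6, 5, 6, 5] 0 9 = true := by decide +kernel

theorem rel32 : T.rel 9 [7, 5, 7, 5] 0 9 = true := by decide +kernel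

theorem rel33 : T.rel 9 [8, 5, 8, 5] 0 9 = true := by decide +kernel

theorem rel34 : T.rel 9 [7, 6, 7, 6] 0 9 = true := by decide +kernel

theorem rel35 : T.rel 9 [8, 6, 8, 6] 0 9 = true := by decide +kernel

theorem rel36 : T.rel 9 [8, 7, 8, 7, 8, 7] 0 9 = true := by decide +kernel

theorem rel37 : T.rel 9 [8, 7, 3, 5, 4, 3, 1, 2, 3, 8, 7, 3, 5, 4, 3, 1, 2, 3, 8, 7, 3, 5, 4, 3, 1, 2, 3, 8, 7, 3, 5, 4, 3, 1, 2, 3, 8, 7, 3, 5, 4, 3, 1, 2, 3, 8, 7, 3, 5, 4, 3, 1, 2, 3, 8, 7, 3, 5, 4, 3, 1, 2, 3, 8, 7, 3, 5, 4, 3, 1, 2, 3, 8, 7, 3, 5, 4, 3, 1, 2, 3, 8, 7, 3, 5, 4, 3, 1, 2, 3] 0 9 = true := by decide +kernel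

theorem rel38 : T.rel 9 [7, 6, 5, 4, 3, 2, 1, 7, 6, 5, 4, 3, 2, 1, 7, 6, 5, 4, 3, 2, 1, 7, 6, 5, 4, 3, 2, 1, 7, 6, 5, 4, 3, 2, 1, 7, 6, 5, 4, 3, 2, 1, 7, 6, 5, 4, 3, 2, 1, 7, 6, 5, 4, 3, 2, 1, 7, 6, 5, 4, 3, 2, 1] 0 9 = true := by decide +kernel

theorem hcov : T.treeCov (ones 351) L 1 = true := by decide +kernel

theorem hg : lall (fun z => band (memL L z) (band (sub (ones 351) (T.let z).cl) (T.closed (ones 351) z))) gs = true := by decide +kernel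

theorem rot1_1 : T.rot 1 [1] (sel (ones 351) ip1 1) = true := by decide +kernel

theorem rot1_1r : band (Rule.ok (2 * 8) EX RL ⟨1 :: [1], [], 30, false⟩) (lall (memL L) [1]) = true := by decide +kernel

theorem rot1_2 : T.rot 1 [3, 1, 3] (sel (ones 351) ip1 2) = true := by decide +kernel

theorem rot1_2r : band (Rule.ok (2 * 8) EX RL ⟨1 :: [3, 1, 3], [], 1, false⟩) (lall (memL L) [3, 1, 3]) = true := by decide +kernel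

theorem rot1_3 : T.rot 1 [4, 1, 4] (sel (ones 351) ip1 3) = true := by decide +kernel

theorem rot1_3r : band (Rule.ok (2 * 8) EX RL ⟨1 :: [4, 1, 4], [], 2, false⟩) (lall (memL L) [4, 1, 4]) = true := by decide +kernel

theorem rot1_4 : T.rot 1 [5, 1, 5] (sel (ones 351) ip1 4) = true := by decide +kernel

theorem rot1_4r : band (Rule.ok (2 * 8) EX RL ⟨1 :: [5, 1, 5], [], 3, false⟩) (lall (memL L) [5, 1, 5]) = true := by decide +kernel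

theorem rot1_5 : T.rot 1 [6, 1, 6] (sel (ones 351) ip1 5) = true := by decide +kernel

theorem rot1_5r : band (Rule.ok (2 * 8) EX RL ⟨1 :: [6, 1, 6], [], 4, false⟩) (lall (memL L) [6, 1, 6]) = true := by decide +kernel

theorem rot1_6 : T.rot 1 [7, 1, 7] (sel (ones 351) ip1 6) = true := by decide +kernel

theorem rot1_6r : band (Rule.ok (2 * 8) EX RL ⟨1 :: [7, 1, 7], [], 5, false⟩) (lall (memL L) [7, 1, 7]) = true := by decide +kernel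

theorem rot1_7 : T.rot 1 [8, 1, 8] (sel (ones 351) ip1 7) = true := by decide +kernel

theorem rot1_7r : band (Rule.ok (2 * 8) EX RL ⟨1 :: [8, 1, 8], [], 6, false⟩) (lall (memL L) [8, 1, 8]) = true := by decide +kernel

theorem rot1_8 : T.rot 1 [2, 1, 2, 1, 2] (sel (ones 351) ip1 8) = true := by decide +kernel

theorem rot1_8r : band (Rule.ok (2 * 8) EX RL ⟨1 :: [2, 1, 2, 1, 2], [], 0, false⟩) (lall (memL L) [2, 1, 2, 1, 2]) = true := by decide +kernel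

theorem rot1_9 : T.rot 1 [7, 6, 5, 4, 3, 2, 1, 7, 6, 5, 4, 3, 2, 1, 7, 6, 5, 4, 3, 2, 1, 7, 6, 5, 4, 3, 2, 1, 7, 6, 5, 4, 3, 2, 1, 7, 6, 5, 4, 3, 2, 1, 7, 6, 5, 4, 3, 2, 1, 7, 6, 5, 4, 3, 2, 1, 7, 6, 5, 4, 3, 2] (sel (ones 351) ip1 9) = true := by decide +kernel

theorem rot1_9r : band (Rule.ok (2 * 8) EX RL ⟨1 :: [7, 6, 5, 4, 3, 2, 1, 7, 6, 5, 4, 3, 2, 1, 7, 6, 5, 4, 3, 2, 1, 7, 6, 5, 4, 3, 2, 1, 7, 6, 5, 4, 3, 2, 1, 7, 6, 5, 4, 3, 2, 1, 7, 6, 5, 4, 3, 2, 1, 7, 6, 5, 4, 3, 2, 1, 7, 6, 5, 4, 3, 2], [0], 29, true⟩) (lall (memL L) [7, 6, 5, 4, 3, 2, 1, 7, 6, 5, 4, 3, 2, 1, 7, 6, 5, 4, 3, 2, 1, 7, 6, 5, 4, 3, 2, 1, 7, 6, 5, 4, 3, 2, 1, 7, 6, 5, 4, 3, 2, 1, 7, 6, 5, 4, 3, 2, 1, 7, 6, 5, 4, 3, 2, 1, 7, 6, 5, 4, 3, 2]) = true := by decide +kernel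

theorem rot1_10 : T.rot 1 [2, 3, 4, 5, 6, 7, 1, 2, 3, 4, 5, 6, 7, 1, 2, 3, 4, 5, 6, 7, 1, 2, 3, 4, 5, 6, 7, 1, 2, 3, 4, 5, 6, 7, 1, 2, 3, 4, 5, 6, 7, 1, 2, 3, 4, 5, 6, 7, 1, 2, 3, 4, 5, 6, 7, 1, 2, 3, 4, 5, 6, 7] (sel (ones 351) ip1 10) = true := by decide +kernel

theorem rot1_10r : band (Rule.ok (2 * 8) EX RL ⟨1 :: [2, 3, 4, 5, 6, 7, 1, 2, 3, 4, 5, 6, 7, 1, 2, 3, 4, 5, 6, 7, 1, 2, 3, 4, 5, 6, 7, 1, 2, 3, 4, 5, 6, 7, 1, 2, 3, 4, 5, 6, 7, 1, 2, 3, 4, 5, 6, 7, 1, 2, 3, 4, 5, 6, 7, 1, 2, 3, 4, 5, 6, 7], [], 29, false⟩) (lall (memL L) [2, 3, 4, 5, 6, 7, 1, 2, 3, 4, 5, 6, 7, 1, 2, 3, 4, 5, 6, 7, 1, 2, 3, 4, 5, 6, 7, 1, 2, 3, 4, 5, 6, 7, 1, 2, 3, 4, 5, 6, 7, 1, 2, 3, 4, 5, 6, 7, 1, 2, 3, 4, 5, 6, 7, 1, 2, 3, 4, 5, 6, 7]) = true := by decide +kernel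

theorem rot1_11 : T.rot 1 [2, 3, 8, 7, 3, 5, 4, 3, 1, 2, 3, 8, 7, 3, 5, 4, 3, 1, 2, 3, 8, 7, 3, 5, 4, 3, 1, 2, 3, 8, 7, 3, 5, 4, 3, 1, 2, 3, 8, 7, 3, 5, 4, 3, 1, 2, 3, 8, 7, 3, 5, 4, 3, 1, 2, 3, 8, 7, 3, 5, 4, 3, 1, 2, 3, 8, 7, 3, 5, 4, 3, 1, 2, 3, 8, 7, 3, 5, 4, 3, 1, 2, 3, 8, 7, 3, 5, 4, 3] (sel (ones 351) ip1 11) = true := by decide +kernel

theorem rot1_11r : band (Rule.ok (2 * 8) EX RL ⟨1 :: [2, 3, 8, 7, 3, 5, 4, 3, 1, 2, 3, 8, 7, 3, 5, 4, 3, 1, 2, 3, 8, 7, 3, 5, 4, 3, 1, 2, 3, 8, 7, 3, 5, 4, 3, 1, 2, 3, 8, 7, 3, 5, 4, 3, 1, 2, 3, 8, 7, 3, 5, 4, 3, 1, 2, 3, 8, 7, 3, 5, 4, 3, 1, 2, 3, 8, 7, 3, 5, 4, 3, 1, 2, 3, 8, 7, 3, 5, 4, 3, 1, 2, 3, 8, 7, 3, 5, 4, 3], [4, 2, 0], 28, true⟩) (lall (memL L) [2, 3, 8, 7, 3, 5, 4, 3, 1, 2, 3, 8, 7, 3, 5, 4, 3, 1, 2, 3, 8, 7, 3, 5, 4, 3, 1, 2, 3, 8, 7, 3, 5, 4, 3, 1, 2, 3,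 8, 7, 3, 5, 4, 3, 1, 2, 3, 8, 7, 3, 5, 4, 3, 1, 2, 3, 8, 7, 3, 5, 4, 3, 1, 2, 3, 8, 7, 3, 5, 4, 3, 1, 2, 3, 8, 7, 3, 5, 4, 3, 1, 2, 3, 8, 7, 3, 5, 4, 3]) = true := by decide +kernel

theorem rot1_12 : T.rot 1 [3, 4, 5, 3, 7, 8, 3, 2, 1, 3, 4, 5, 3, 7, 8, 3, 2, 1, 3, 4, 5, 3, 7, 8, 3, 2, 1, 3, 4, 5, 3, 7, 8, 3, 2, 1, 3, 4, 5, 3, 7, 8, 3, 2, 1, 3, 4, 5, 3, 7, 8, 3, 2, 1, 3, 4, 5, 3, 7, 8, 3, 2, 1, 3, 4, 5, 3, 7, 8, 3, 2, 1, 3, 4, 5, 3, 7, 8, 3, 2, 1, 3, 4, 5, 3, 7, 8, 3, 2] (sel (ones 351) ip1 12) = true := by decide +kernel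

theorem rot1_12r : band (Rule.ok (2 * 8) EX RL ⟨1 :: [3, 4, 5, 3, 7, 8, 3, 2, 1, 3, 4, 5, 3, 7, 8, 3, 2, 1, 3, 4, 5, 3, 7, 8, 3, 2, 1, 3, 4, 5, 3, 7, 8, 3, 2, 1, 3, 4, 5, 3, 7, 8, 3, 2, 1, 3, 4, 5, 3, 7, 8, 3, 2, 1, 3, 4, 5, 3, 7, 8, 3, 2, 1, 3, 4, 5, 3, 7, 8, 3, 2, 1, 3, 4, 5, 3, 7, 8, 3, 2, 1, 3, 4, 5, 3, 7, 8, 3, 2], [4, 2], 28, false⟩) (lall (memL L) [3, 4, 5, 3, 7, 8, 3, 2, 1, 3, 4, 5, 3, 7, 8, 3, 2, 1, 3, 4, 5, 3, 7, 8, 3, 2, 1, 3, 4, 5, 3, 7, 8, 3, 2, 1, 3, 4, 5, 3, 7, 8, 3, 2, 1, 3, 4, 5, 3, 7, 8, 3, 2, 1, 3, 4, 5, 3, 7, 8, 3, 2, 1, 3, 4, 5, 3, 7, 8, 3, 2, 1, 3, 4, 5, 3, 7, 8, 3, 2, 1, 3, 4, 5, 3, 7, 8, 3, 2]) = true := by decide +kernel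

theorem cov1 : T.cover 1 [(sel (ones 351) ip1 1), (sel (ones 351) ip1 2), (sel (ones 351) ip1 3), (sel (ones 351) ip1 4), (sel (ones 351) ip1 5), (sel (ones 351) ip1 6), (sel (ones 351) ip1 7), (sel (ones 351) ip1 8), (sel (ones 351) ip1 9), (sel (ones 351) ip1 10), (sel (ones 351) ip1 11), (sel (ones 351) ip1 12), 1] = true := by decide +kernel

theorem tl1 : T.treeLt 9 1 = true := by decide +kernel

theorem rot2_1 : T.rot 2 [2] (sel (ones 351) ip2 1) = true := by decide +kernel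

theorem rot2_1r : band (Rule.ok (2 * 8) EX RL ⟨2 :: [2], [], 30, false⟩) (lall (memL L) [2]) = true := by decide +kernel

theorem rot2_2 : T.rot 2 [4, 2, 4] (sel (ones 351) ip2 2) = true := by decide +kernel

theorem rot2_2r : band (Rule.ok (2 * 8) EX RL ⟨2 :: [4, 2, 4], [], 8, false⟩) (lall (memL L) [4, 2, 4]) = true := by decide +kernel

theorem rot2_3 : T.rot 2 [5, 2, 5] (sel (ones 351) ip2 3) = true := by decide +kernel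

theorem rot2_3r : band (Rule.ok (2 * 8) EX RL ⟨2 :: [5, 2, 5], [], 9, false⟩) (lall (memL L) [5, 2, 5]) = true := by decide +kernel

theorem rot2_4 : T.rot 2 [6, 2, 6] (sel (ones 351) ip2 4) = true := by decide +kernel

theorem rot2_4r : band (Rule.ok (2 * 8) EX RL ⟨2 :: [6, 2, 6], [], 10, false⟩) (lall (memL L) [6, 2, 6]) = true := by decide +kernel

theorem rot2_5 : T.rot 2 [7, 2, 7] (sel (ones 351) ip2 5) = true := by decide +kernel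

theorem rot2_5r : band (Rule.ok (2 * 8) EX RL ⟨2 :: [7, 2, 7], [], 11, false⟩) (lall (memL L) [7, 2, 7]) = true := by decide +kernel

theorem rot2_6 : T.rot 2 [8, 2, 8] (sel (ones 351) ip2 6) = true := by decide +kernel

theorem rot2_6r : band (Rule.ok (2 * 8) EX RL ⟨2 :: [8, 2, 8], [], 12, false⟩) (lall (memL L) [8, 2, 8]) = true := by decide +kernel

theorem rot2_7 : T.rot 2 [1, 2, 1, 2, 1] (sel (ones 351) ip2 7) = true := by decide +kernel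

theorem rot2_7r : band (Rule.ok (2 * 8) EX RL ⟨2 :: [1, 2, 1, 2, 1], [], 0, true⟩) (lall (memL L) [1, 2, 1, 2, 1]) = true := by decide +kernel

theorem rot2_8 : T.rot 2 [3, 2, 3, 2, 3] (sel (ones 351) ip2 8) = true := by decide +kernel

theorem rot2_8r : band (Rule.ok (2 * 8) EX RL ⟨2 :: [3, 2, 3, 2, 3], [], 7, false⟩) (lall (memL L) [3, 2, 3, 2, 3]) = true := by decide +kernel

theorem rot2_9 : T.rot 2 [1, 7, 6, 5, 4, 3, 2, 1, 7, 6, 5, 4, 3, 2, 1, 7, 6, 5, 4, 3, 2, 1, 7, 6, 5, 4, 3, 2, 1, 7, 6, 5, 4, 3, 2, 1, 7, 6, 5, 4, 3, 2, 1, 7, 6, 5, 4, 3, 2, 1, 7, 6, 5, 4, 3, 2, 1, 7, 6, 5, 4, 3] (sel (ones 351) ip2 9) = true := by decide +kernel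

theorem rot2_9r : band (Rule.ok (2 * 8) EX RL ⟨2 :: [1, 7, 6, 5, 4, 3, 2, 1, 7, 6, 5, 4, 3, 2, 1, 7, 6, 5, 4, 3, 2, 1, 7, 6, 5, 4, 3, 2, 1, 7, 6, 5, 4, 3, 2, 1, 7, 6, 5, 4, 3, 2, 1, 7, 6, 5, 4, 3, 2, 1, 7, 6, 5, 4, 3, 2, 1, 7, 6, 5, 4, 3], [0, 2], 29, true⟩) (lall (memL L) [1, 7, 6, 5, 4, 3, 2, 1, 7, 6, 5, 4, 3, 2, 1, 7, 6, 5, 4, 3, 2, 1, 7, 6, 5, 4, 3, 2, 1, 7, 6, 5, 4, 3, 2, 1, 7, 6, 5, 4, 3, 2, 1, 7, 6, 5, 4, 3, 2, 1, 7, 6, 5, 4, 3, 2, 1, 7, 6, 5, 4, 3]) = true := by decide +kernel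

theorem rot2_10 : T.rot 2 [3, 4, 5, 6, 7, 1, 2, 3, 4, 5, 6, 7, 1, 2, 3, 4, 5, 6, 7, 1, 2, 3, 4, 5, 6, 7, 1, 2, 3, 4, 5, 6, 7, 1, 2, 3, 4, 5, 6, 7, 1, 2, 3, 4, 5, 6, 7, 1, 2, 3, 4, 5, 6, 7, 1, 2, 3, 4, 5, 6, 7, 1] (sel (ones 351) ip2 10) = true := by decide +kernel

theorem rot2_10r : band (Rule.ok (2 * 8) EX RL ⟨2 :: [3, 4, 5, 6, 7, 1, 2, 3, 4, 5, 6, 7, 1, 2, 3, 4, 5, 6, 7, 1, 2, 3, 4, 5, 6, 7, 1, 2, 3, 4, 5, 6, 7, 1, 2, 3, 4, 5, 6, 7, 1, 2, 3, 4, 5, 6, 7, 1, 2, 3, 4, 5, 6, 7, 1, 2, 3, 4, 5, 6, 7, 1], [0], 29, false⟩) (lall (memL L) [3, 4, 5, 6, 7, 1, 2, 3, 4, 5, 6, 7, 1, 2, 3, 4, 5, 6, 7, 1, 2, 3, 4, 5, 6, 7, 1, 2, 3, 4, 5, 6, 7, 1, 2, 3, 4, 5, 6, 7, 1, 2, 3, 4, 5, 6, 7, 1, 2, 3, 4, 5, 6, 7, 1, 2, 3, 4, 5, 6, 7, 1]) = true := by decide +kernel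

theorem rot2_11 : T.rot 2 [3, 8, 7, 3, 5, 4, 3, 1, 2, 3, 8, 7, 3, 5, 4, 3, 1, 2, 3, 8, 7, 3, 5, 4, 3, 1, 2, 3, 8, 7, 3, 5, 4, 3, 1, 2, 3, 8, 7, 3, 5, 4, 3, 1, 2, 3, 8, 7, 3, 5, 4, 3, 1, 2, 3, 8, 7, 3, 5, 4, 3, 1, 2, 3, 8, 7, 3, 5, 4, 3, 1, 2, 3, 8, 7, 3, 5, 4, 3, 1, 2, 3, 8, 7, 3, 5, 4, 3, 1] (sel (ones 351) ip2 11) = true := by decide +kernel

theorem rot2_11r : band (Rule.ok (2 * 8) EX RL ⟨2 :: [3, 8, 7, 3, 5, 4, 3, 1, 2, 3, 8, 7, 3, 5, 4, 3, 1, 2, 3, 8, 7, 3, 5, 4, 3, 1, 2, 3, 8, 7, 3, 5, 4, 3, 1, 2, 3, 8, 7, 3, 5, 4, 3, 1, 2, 3, 8, 7, 3, 5, 4, 3, 1, 2, 3, 8, 7, 3, 5, 4, 3, 1, 2, 3, 8, 7, 3, 5, 4, 3, 1, 2, 3, 8, 7, 3, 5, 4, 3, 1, 2, 3, 8, 7, 3, 5, 4, 3, 1], [4, 2], 28, true⟩) (lall (memL L) [3, 8, 7, 3, 5, 4, 3, 1, 2, 3, 8, 7, 3, 5, 4, 3, 1, 2, 3, 8, 7, 3, 5, 4, 3, 1, 2, 3, 8, 7, 3, 5, 4, 3, 1, 2, 3, 8, 7,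 3, 5, 4, 3, 1, 2, 3, 8, 7, 3, 5, 4, 3, 1, 2, 3, 8, 7, 3, 5, 4, 3, 1, 2, 3, 8, 7, 3, 5, 4, 3, 1, 2, 3, 8, 7, 3, 5, 4, 3, 1, 2, 3, 8, 7, 3, 5, 4, 3, 1]) = true := by decide +kernel

theorem rot2_12 : T.rot 2 [1, 3, 4, 5, 3, 7, 8, 3, 2, 1, 3, 4, 5, 3, 7, 8, 3, 2, 1, 3, 4, 5, 3, 7, 8, 3, 2, 1, 3, 4, 5, 3, 7, 8, 3, 2, 1, 3, 4, 5, 3, 7, 8, 3, 2, 1, 3, 4, 5, 3, 7, 8, 3, 2, 1, 3, 4, 5, 3, 7, 8, 3, 2, 1, 3, 4, 5, 3, 7, 8, 3, 2, 1, 3, 4, 5, 3, 7, 8, 3, 2, 1, 3, 4, 5, 3, 7, 8, 3] (sel (ones 351) ip2 12) = true := by decide +kernel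

theorem rot2_12r : band (Rule.ok (2 * 8) EX RL ⟨2 :: [1, 3, 4, 5, 3, 7, 8, 3, 2, 1, 3, 4, 5, 3, 7, 8, 3, 2, 1, 3, 4, 5, 3, 7, 8, 3, 2, 1, 3, 4, 5, 3, 7, 8, 3, 2, 1, 3, 4, 5, 3, 7, 8, 3, 2, 1, 3, 4, 5, 3, 7, 8, 3, 2, 1, 3, 4, 5, 3, 7, 8, 3, 2, 1, 3, 4, 5, 3, 7, 8, 3, 2, 1, 3, 4, 5, 3, 7, 8, 3, 2, 1, 3, 4, 5, 3, 7, 8, 3], [4], 28, false⟩) (lall (memL L) [1, 3, 4, 5, 3, 7, 8, 3, 2, 1, 3, 4, 5, 3, 7, 8, 3, 2, 1, 3, 4, 5, 3, 7, 8, 3, 2, 1, 3, 4, 5, 3, 7, 8, 3, 2, 1, 3, 4, 5, 3, 7, 8, 3, 2, 1, 3, 4, 5, 3, 7, 8, 3, 2, 1, 3, 4, 5, 3, 7, 8, 3, 2, 1, 3, 4, 5, 3, 7, 8, 3, 2, 1, 3, 4, 5, 3, 7, 8, 3, 2, 1, 3, 4, 5, 3, 7, 8, 3]) = true := by decide +kernel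

theorem cov2 : T.cover 2 [(sel (ones 351) ip2 1), (sel (ones 351) ip2 2), (sel (ones 351) ip2 3), (sel (ones 351) ip2 4), (sel (ones 351) ip2 5), (sel (ones 351) ip2 6), (sel (ones 351) ip2 7), (sel (ones 351) ip2 8), (sel (ones 351) ip2 9), (sel (ones 351) ip2 10), (sel (ones 351) ip2 11), (sel (ones 351) ip2 12)] = true := by decide +kernel

theorem tl2 : T.treeLt 9 2 = true := by decide +kernel

theorem rot3_1 : T.rot 3 [3] (sel (ones 351) ip3 1) = true := by decide +kernel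

theorem rot3_1r : band (Rule.ok (2 * 8) EX RL ⟨3 :: [3], [], 30, false⟩) (lall (memL L) [3]) = true := by decide +kernel

theorem rot3_2 : T.rot 3 [1, 3, 1] (sel (ones 351) ip3 2) = true := by decide +kernel

theorem rot3_2r : band (Rule.ok (2 * 8) EX RL ⟨3 :: [1, 3, 1], [], 1, true⟩) (lall (memL L) [1, 3, 1]) = true := by decide +kernel

theorem rot3_3 : T.rot 3 [5, 3, 5] (sel (ones 351) ip3 3) = true := by decide +kernel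

theorem rot3_3r : band (Rule.ok (2 * 8) EX RL ⟨3 :: [5, 3, 5], [], 14, false⟩) (lall (memL L) [5, 3, 5]) = true := by decide +kernel

theorem rot3_4 : T.rot 3 [6, 3, 6] (sel (ones 351) ip3 4) = true := by decide +kernel

theorem rot3_4r : band (Rule.ok (2 * 8) EX RL ⟨3 :: [6, 3, 6], [], 15, false⟩) (lall (memL L) [6, 3, 6]) = true := by decide +kernel

theorem rot3_5 : T.rot 3 [8, 3, 8] (sel (ones 351) ip3 5) = true := by decide +kernel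

theorem rot3_5r : band (Rule.ok (2 * 8) EX RL ⟨3 :: [8, 3, 8], [], 17, false⟩) (lall (memL L) [8, 3, 8]) = true := by decide +kernel

theorem rot3_6 : T.rot 3 [2, 3, 2, 3, 2] (sel (ones 351) ip3 6) = true := by decide +kernel

theorem rot3_6r : band (Rule.ok (2 * 8) EX RL ⟨3 :: [2, 3, 2, 3, 2], [], 7, true⟩) (lall (memL L) [2, 3, 2, 3, 2]) = true := by decide +kernel

theorem rot3_7 : T.rot 3 [4, 3, 4, 3, 4] (sel (ones 351) ip3 7) = true := by decide +kernel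

theorem rot3_7r : band (Rule.ok (2 * 8) EX RL ⟨3 :: [4, 3, 4, 3, 4], [], 13, false⟩) (lall (memL L) [4, 3, 4, 3, 4]) = true := by decide +kernel

theorem rot3_8 : T.rot 3 [7, 3, 7, 3, 7] (sel (ones 351) ip3 8) = true := by decide +kernel

theorem rot3_8r : band (Rule.ok (2 * 8) EX RL ⟨3 :: [7, 3, 7, 3, 7], [], 16, false⟩) (lall (memL L) [7, 3, 7, 3, 7]) = true := by decide +kernel

theorem cov3 : T.cover 3 [(sel (ones 351) ip3 1), (sel (ones 351) ip3 2), (sel (ones 351) ip3 3), (sel (ones 351) ip3 4), (sel (ones 351) ip3 5), (sel (ones 351) ip3 6), (sel (ones 351) ip3 7), (sel (ones 351) ip3 8), 1] = true := by decide +kernel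

theorem tl3 : T.treeLt 9 3 = true := by decide +kernel

theorem rot4_1 : T.rot 4 [4] (sel (ones 351) ip4 1) = true := by decide +kernel

theorem rot4_1r : band (Rule.ok (2 * 8) EX RL ⟨4 :: [4], [], 30, false⟩) (lall (memL L) [4]) = true := by decide +kernel

theorem rot4_2 : T.rot 4 [1, 4, 1] (sel (ones 351) ip4 2) = true := by decide +kernel

theorem rot4_2r : band (Rule.ok (2 * 8) EX RL ⟨4 :: [1, 4, 1], [], 2, true⟩) (lall (memL L) [1, 4, 1]) = true := by decide +kernel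

theorem rot4_3 : T.rot 4 [2, 4, 2] (sel (ones 351) ip4 3) = true := by decide +kernel

theorem rot4_3r : band (Rule.ok (2 * 8) EX RL ⟨4 :: [2, 4, 2], [], 8, true⟩) (lall (memL L) [2, 4, 2]) = true := by decide +kernel

theorem rot4_4 : T.rot 4 [6, 4, 6] (sel (ones 351) ip4 4) = true := by decide +kernel

theorem rot4_4r : band (Rule.ok (2 * 8) EX RL ⟨4 :: [6, 4, 6], [], 19, false⟩) (lall (memL L) [6, 4, 6]) = true := by decide +kernel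

theorem rot4_5 : T.rot 4 [7, 4, 7] (sel (ones 351) ip4 5) = true := by decide +kernel

theorem rot4_5r : band (Rule.ok (2 * 8) EX RL ⟨4 :: [7, 4, 7], [], 20, false⟩) (lall (memL L) [7, 4, 7]) = true := by decide +kernel

theorem rot4_6 : T.rot 4 [8, 4, 8] (sel (ones 351) ip4 6) = true := by decide +kernel

theorem rot4_6r : band (Rule.ok (2 * 8) EX RL ⟨4 :: [8, 4, 8], [], 21, false⟩) (lall (memL L) [8, 4, 8]) = true := by decide +kernel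

theorem rot4_7 : T.rot 4 [3, 4, 3, 4, 3] (sel (ones 351) ip4 7) = true := by decide +kernel

theorem rot4_7r : band (Rule.ok (2 * 8) EX RL ⟨4 :: [3, 4, 3, 4, 3], [], 13, true⟩) (lall (memL L) [3, 4, 3, 4, 3]) = true := by decide +kernel

theorem rot4_8 : T.rot 4 [5, 4, 5, 4, 5] (sel (ones 351) ip4 8) = true := by decide +kernel

theorem rot4_8r : band (Rule.ok (2 * 8) EX RL ⟨4 :: [5, 4, 5, 4, 5], [], 18, false⟩) (lall (memL L) [5, 4, 5, 4, 5]) = true := by decide +kernel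

theorem cov4 : T.cover 4 [(sel (ones 351) ip4 1), (sel (ones 351) ip4 2), (sel (ones 351) ip4 3), (sel (ones 351) ip4 4), (sel (ones 351) ip4 5), (sel (ones 351) ip4 6), (sel (ones 351) ip4 7), (sel (ones 351) ip4 8), 1] = true := by decide +kernel

theorem tl4 : T.treeLt 9 4 = true := by decide +kernel

theorem rot5_1 : T.rot 5 [5] (sel (ones 351) ip5 1) = true := by decide +kernel

theorem rot5_1r : band (Rule.ok (2 * 8) EX RL ⟨5 :: [5], [], 30, false⟩) (lall (memL L) [5]) = true := by decide +kernel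

theorem rot5_2 : T.rot 5 [1, 5, 1] (sel (ones 351) ip5 2) = true := by decide +kernel

theorem rot5_2r : band (Rule.ok (2 * 8) EX RL ⟨5 :: [1, 5, 1], [], 3, true⟩) (lall (memL L) [1, 5, 1]) = true := by decide +kernel

theorem rot5_3 : T.rot 5 [2, 5, 2] (sel (ones 351) ip5 3) = true := by decide +kernel

theorem rot5_3r : band (Rule.ok (2 * 8) EX RL ⟨5 :: [2, 5, 2], [], 9, true⟩) (lall (memL L) [2, 5, 2]) = true := by decide +kernel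

theorem rot5_4 : T.rot 5 [3, 5, 3] (sel (ones 351) ip5 4) = true := by decide +kernel

theorem rot5_4r : band (Rule.ok (2 * 8) EX RL ⟨5 :: [3, 5, 3], [], 14, true⟩) (lall (memL L) [3, 5, 3]) = true := by decide +kernel

theorem rot5_5 : T.rot 5 [7, 5, 7] (sel (ones 351) ip5 5) = true := by decide +kernel

theorem rot5_5r : band (Rule.ok (2 * 8) EX RL ⟨5 :: [7, 5, 7], [], 23, false⟩) (lall (memL L) [7, 5, 7]) = true := by decide +kernel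

theorem rot5_6 : T.rot 5 [8, 5, 8] (sel (ones 351) ip5 6) = true := by decide +kernel

theorem rot5_6r : band (Rule.ok (2 * 8) EX RL ⟨5 :: [8, 5, 8], [], 24, false⟩) (lall (memL L) [8, 5, 8]) = true := by decide +kernel

theorem rot5_7 : T.rot 5 [4, 5, 4, 5, 4] (sel (ones 351) ip5 7) = true := by decide +kernel

theorem rot5_7r : band (Rule.ok (2 * 8) EX RL ⟨5 :: [4, 5, 4, 5, 4], [], 18, true⟩) (lall (memL L) [4, 5, 4, 5, 4]) = true := by decide +kernel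

theorem rot5_8 : T.rot 5 [6, 5, 6, 5, 6] (sel (ones 351) ip5 8) = true := by decide +kernel

theorem rot5_8r : band (Rule.ok (2 * 8) EX RL ⟨5 :: [6, 5, 6, 5, 6], [], 22, false⟩) (lall (memL L) [6, 5, 6, 5, 6]) = true := by decide +kernel

theorem cov5 : T.cover 5 [(sel (ones 351) ip5 1), (sel (ones 351) ip5 2), (sel (ones 351) ip5 3), (sel (ones 351) ip5 4), (sel (ones 351) ip5 5), (sel (ones 351) ip5 6), (sel (ones 351) ip5 7), (sel (ones 351) ip5 8), 1] = true := by decide +kernel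

theorem tl5 : T.treeLt 9 5 = true := by decide +kernel

theorem rot6_1 : T.rot 6 [6] (sel (ones 351) ip6 1) = true := by decide +kernel

theorem rot6_1r : band (Rule.ok (2 * 8) EX RL ⟨6 :: [6], [], 30, false⟩) (lall (memL L) [6]) = true := by decide +kernel

theorem rot6_2 : T.rot 6 [1, 6, 1] (sel (ones 351) ip6 2) = true := by decide +kernel

theorem rot6_2r : band (Rule.ok (2 * 8) EX RL ⟨6 :: [1, 6, 1], [], 4, true⟩) (lall (memL L) [1, 6, 1]) = true := by decide +kernel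

theorem rot6_3 : T.rot 6 [2, 6, 2] (sel (ones 351) ip6 3) = true := by decide +kernel

theorem rot6_3r : band (Rule.ok (2 * 8) EX RL ⟨6 :: [2, 6, 2], [], 10, true⟩) (lall (memL L) [2, 6, 2]) = true := by decide +kernel

theorem rot6_4 : T.rot 6 [3, 6, 3] (sel (ones 351) ip6 4) = true := by decide +kernel

theorem rot6_4r : band (Rule.ok (2 * 8) EX RL ⟨6 :: [3, 6, 3], [], 15, true⟩) (lall (memL L) [3, 6, 3]) = true := by decide +kernel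

theorem rot6_5 : T.rot 6 [4, 6, 4] (sel (ones 351) ip6 5) = true := by decide +kernel

theorem rot6_5r : band (Rule.ok (2 * 8) EX RL ⟨6 :: [4, 6, 4], [], 19, true⟩) (lall (memL L) [4, 6, 4]) = true := by decide +kernel

theorem rot6_6 : T.rot 6 [7, 6, 7] (sel (ones 351) ip6 6) = true := by decide +kernel

theorem rot6_6r : band (Rule.ok (2 * 8) EX RL ⟨6 :: [7, 6, 7], [], 25, false⟩) (lall (memL L) [7, 6, 7]) = true := by decide +kernel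

theorem rot6_7 : T.rot 6 [8, 6, 8] (sel (ones 351) ip6 7) = true := by decide +kernel

theorem rot6_7r : band (Rule.ok (2 * 8) EX RL ⟨6 :: [8, 6, 8], [], 26, false⟩) (lall (memL L) [8, 6, 8]) = true := by decide +kernel

theorem rot6_8 : T.rot 6 [5, 6, 5, 6, 5] (sel (ones 351) ip6 8) = true := by decide +kernel

theorem rot6_8r : band (Rule.ok (2 * 8) EX RL ⟨6 :: [5, 6, 5, 6, 5], [], 22, true⟩) (lall (memL L) [5, 6, 5, 6, 5]) = true := by decide +kernel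

theorem rot6_9 : T.rot 6 [5, 4, 3, 2, 1, 7, 6, 5, 4, 3, 2, 1, 7, 6, 5, 4, 3, 2, 1, 7, 6, 5, 4, 3, 2, 1, 7, 6, 5, 4, 3, 2, 1, 7, 6, 5, 4, 3, 2, 1, 7, 6, 5, 4, 3, 2, 1, 7, 6, 5, 4, 3, 2, 1, 7, 6, 5, 4, 3, 2, 1, 7] (sel (ones 351) ip6 9) = true := by decide +kernel

theorem rot6_9r : band (Rule.ok (2 * 8) EX RL ⟨6 :: [5, 4, 3, 2, 1, 7, 6, 5, 4, 3, 2, 1, 7, 6, 5, 4, 3, 2, 1, 7, 6, 5, 4, 3, 2, 1, 7, 6, 5, 4, 3, 2, 1, 7, 6, 5, 4, 3, 2, 1, 7, 6, 5, 4, 3, 2, 1, 7, 6, 5, 4, 3, 2, 1, 7, 6, 5, 4, 3, 2, 1, 7], [12], 29, true⟩) (lall (memL L) [5, 4, 3, 2, 1, 7, 6, 5, 4, 3, 2, 1, 7, 6, 5, 4, 3, 2, 1, 7, 6, 5, 4, 3, 2, 1, 7, 6, 5, 4, 3, 2, 1, 7, 6, 5, 4, 3, 2, 1, 7, 6, 5, 4, 3, 2, 1, 7, 6, 5, 4, 3, 2, 1, 7, 6, 5, 4, 3, 2, 1, 7]) = true := by decide +kernel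

theorem rot6_10 : T.rot 6 [7, 1, 2, 3, 4, 5, 6, 7, 1, 2, 3, 4, 5, 6, 7, 1, 2, 3, 4, 5, 6, 7, 1, 2, 3, 4, 5, 6, 7, 1, 2, 3, 4, 5, 6, 7, 1, 2, 3, 4, 5, 6, 7, 1, 2, 3, 4, 5, 6, 7, 1, 2, 3, 4, 5, 6, 7, 1, 2, 3, 4, 5] (sel (ones 351) ip6 10) = true := by decide +kernel

theorem rot6_10r : band (Rule.ok (2 * 8) EX RL ⟨6 :: [7, 1, 2, 3, 4, 5, 6, 7, 1, 2, 3, 4, 5, 6, 7, 1, 2, 3, 4, 5, 6, 7, 1, 2, 3, 4, 5, 6, 7, 1, 2, 3, 4, 5, 6, 7, 1, 2, 3, 4, 5, 6, 7, 1, 2, 3, 4, 5, 6, 7, 1, 2, 3, 4, 5, 6, 7, 1, 2, 3, 4, 5], [12, 10], 29, false⟩) (lall (memL L) [7, 1, 2, 3, 4, 5, 6, 7, 1, 2, 3, 4, 5, 6, 7, 1, 2, 3, 4, 5, 6, 7, 1, 2, 3, 4, 5, 6, 7, 1, 2, 3, 4, 5, 6, 7, 1, 2, 3, 4, 5, 6, 7, 1, 2, 3, 4, 5, 6, 7, 1, 2, 3, 4, 5, 6, 7, 1, 2, 3, 4, 5]) = true := by decide +kernel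

theorem cov6 : T.cover 6 [(sel (ones 351) ip6 1), (sel (ones 351) ip6 2), (sel (ones 351) ip6 3), (sel (ones 351) ip6 4), (sel (ones 351) ip6 5), (sel (ones 351) ip6 6), (sel (ones 351) ip6 7), (sel (ones 351) ip6 8), (sel (ones 351) ip6 9), (sel (ones 351) ip6 10), 1] = true := by decide +kernel

theorem tl6 : T.treeLt 9 6 = true := by decide +kernel

theorem rot7_1 : T.rot 7 [7] (sel (ones 351) ip7 1) = true := by decide +kernel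

theorem rot7_1r : band (Rule.ok (2 * 8) EX RL ⟨7 :: [7], [], 30, false⟩) (lall (memL L) [7]) = true := by decide +kernel

theorem rot7_2 : T.rot 7 [1, 7, 1] (sel (ones 351) ip7 2) = true := by decide +kernel

theorem rot7_2r : band (Rule.ok (2 * 8) EX RL ⟨7 :: [1, 7, 1], [], 5, true⟩) (lall (memL L) [1, 7, 1]) = true := by decide +kernel

theorem rot7_3 : T.rot 7 [2, 7, 2] (sel (ones 351) ip7 3) = true := by decide +kernel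

theorem rot7_3r : band (Rule.ok (2 * 8) EX RL ⟨7 :: [2, 7, 2], [], 11, true⟩) (lall (memL L) [2, 7, 2]) = true := by decide +kernel

theorem rot7_4 : T.rot 7 [4, 7, 4] (sel (ones 351) ip7 4) = true := by decide +kernel

theorem rot7_4r : band (Rule.ok (2 * 8) EX RL ⟨7 :: [4, 7, 4], [], 20, true⟩) (lall (memL L) [4, 7, 4]) = true := by decide +kernel

theorem rot7_5 : T.rot 7 [5, 7, 5] (sel (ones 351) ip7 5) = true := by decide +kernel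

theorem rot7_5r : band (Rule.ok (2 * 8) EX RL ⟨7 :: [5, 7, 5], [], 23, true⟩) (lall (memL L) [5, 7, 5]) = true := by decide +kernel

theorem rot7_6 : T.rot 7 [6, 7, 6] (sel (ones 351) ip7 6) = true := by decide +kernel

theorem rot7_6r : band (Rule.ok (2 * 8) EX RL ⟨7 :: [6, 7, 6], [], 25, true⟩) (lall (memL L) [6, 7, 6]) = true := by decide +kernel

theorem rot7_7 : T.rot 7 [3, 7, 3, 7, 3] (sel (ones 351) ip7 7) = true := by decide +kernel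

theorem rot7_7r : band (Rule.ok (2 * 8) EX RL ⟨7 :: [3, 7, 3, 7, 3], [], 16, true⟩) (lall (memL L) [3, 7, 3, 7, 3]) = true := by decide +kernel

theorem rot7_8 : T.rot 7 [8, 7, 8, 7, 8] (sel (ones 351) ip7 8) = true := by decide +kernel

theorem rot7_8r : band (Rule.ok (2 * 8) EX RL ⟨7 :: [8, 7, 8, 7, 8], [], 27, false⟩) (lall (memL L) [8, 7, 8, 7, 8]) = true := by decide +kernel

theorem rot7_9 : T.rot 7 [3, 4, 2, 3, 1, 2, 10, 2, 1, 3, 2, 4, 3] (sel (ones 351) ip7 9) = true := by decide +kernel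

theorem rot7_9r : band (Rule.ok (2 * 8) EX RL ⟨7 :: [3, 4, 2, 3, 1, 2, 10, 2, 1, 3, 2, 4, 3], [], 30, false⟩) (lall (memL L) [3, 4, 2, 3, 1, 2, 10, 2, 1, 3, 2, 4, 3]) = true := by decide +kernel

theorem rot7_10 : T.rot 7 [6, 5, 4, 3, 2, 1, 7, 6, 5, 4, 3, 2, 1, 7, 6, 5, 4, 3, 2, 1, 7, 6, 5, 4, 3, 2, 1, 7, 6, 5, 4, 3, 2, 1, 7, 6, 5, 4, 3, 2, 1, 7, 6, 5, 4, 3, 2, 1, 7, 6, 5, 4, 3, 2, 1, 7, 6, 5, 4, 3, 2, 1] (sel (ones 351) ip7 10) = true := by decide +kernel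

theorem rot7_10r : band (Rule.ok (2 * 8) EX RL ⟨7 :: [6, 5, 4, 3, 2, 1, 7, 6, 5, 4, 3, 2, 1, 7, 6, 5, 4, 3, 2, 1, 7, 6, 5, 4, 3, 2, 1, 7, 6, 5, 4, 3, 2, 1, 7, 6, 5, 4, 3, 2, 1, 7, 6, 5, 4, 3, 2, 1, 7, 6, 5, 4, 3, 2, 1, 7, 6, 5, 4, 3, 2, 1], [], 29, true⟩) (lall (memL L) [6, 5, 4, 3, 2, 1, 7, 6, 5, 4, 3, 2, 1, 7, 6, 5, 4, 3, 2, 1, 7, 6, 5, 4, 3, 2, 1, 7, 6, 5, 4, 3, 2, 1, 7, 6, 5, 4, 3, 2, 1, 7, 6, 5, 4, 3, 2, 1, 7, 6, 5, 4, 3, 2, 1, 7, 6, 5, 4, 3, 2, 1]) = true := by decide +kernel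

theorem rot7_11 : T.rot 7 [1, 2, 3, 4, 5, 6, 7, 1, 2, 3, 4, 5, 6, 7, 1, 2, 3, 4, 5, 6, 7, 1, 2, 3, 4, 5, 6, 7, 1, 2, 3, 4, 5, 6, 7, 1, 2, 3, 4, 5, 6, 7, 1, 2, 3, 4, 5, 6, 7, 1, 2, 3, 4, 5, 6, 7, 1, 2, 3, 4, 5, 6] (sel (ones 351) ip7 11) = true := by decide +kernel

theorem rot7_11r : band (Rule.ok (2 * 8) EX RL ⟨7 :: [1, 2, 3, 4, 5, 6, 7, 1, 2, 3, 4, 5, 6, 7, 1, 2, 3, 4, 5, 6, 7, 1, 2, 3, 4, 5, 6, 7, 1, 2, 3, 4, 5, 6, 7, 1, 2, 3, 4, 5, 6, 7, 1, 2, 3, 4, 5, 6, 7, 1, 2, 3, 4, 5, 6, 7, 1, 2, 3, 4, 5, 6], [12], 29, false⟩) (lall (memL L) [1, 2, 3, 4, 5, 6, 7, 1, 2, 3, 4, 5, 6, 7, 1, 2, 3, 4, 5, 6, 7, 1, 2, 3, 4, 5, 6, 7, 1, 2, 3, 4, 5, 6, 7, 1, 2, 3, 4, 5, 6, 7, 1, 2, 3, 4, 5, 6, 7, 1, 2, 3, 4, 5, 6, 7, 1, 2, 3, 4, 5, 6]) = true := by decide +kernel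

theorem rot7_12 : T.rot 7 [3, 5, 4, 3, 1, 2, 3, 8, 7, 3, 5, 4, 3, 1, 2, 3, 8, 7, 3, 5, 4, 3, 1, 2, 3, 8, 7, 3, 5, 4, 3, 1, 2, 3, 8, 7, 3, 5, 4, 3, 1, 2, 3, 8, 7, 3, 5, 4, 3, 1, 2, 3, 8, 7, 3, 5, 4, 3, 1, 2, 3, 8, 7, 3, 5, 4, 3, 1, 2, 3, 8, 7, 3, 5, 4, 3, 1, 2, 3, 8, 7, 3, 5, 4, 3, 1, 2, 3, 8] (sel (ones 351) ip7 12) = true := by decide +kernel

theorem rot7_12r : band (Rule.ok (2 * 8) EX RL ⟨7 :: [3, 5, 4, 3, 1, 2, 3, 8, 7, 3, 5, 4, 3, 1, 2, 3, 8, 7, 3, 5, 4, 3, 1, 2, 3, 8, 7, 3, 5, 4, 3, 1, 2, 3, 8, 7, 3, 5, 4, 3, 1, 2, 3, 8, 7, 3, 5, 4, 3, 1, 2, 3, 8, 7, 3, 5, 4, 3, 1, 2, 3, 8, 7, 3, 5, 4, 3, 1, 2, 3, 8, 7, 3, 5, 4, 3, 1, 2, 3, 8, 7, 3, 5, 4, 3, 1, 2, 3, 8], [14], 28, true⟩) (lall (memL L) [3, 5, 4, 3, 1, 2, 3, 8, 7, 3, 5, 4, 3, 1, 2, 3, 8, 7, 3, 5, 4, 3, 1, 2, 3, 8, 7, 3, 5, 4, 3, 1, 2, 3, 8, 7, 3, 5, 4,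 3, 1, 2, 3, 8, 7, 3, 5, 4, 3, 1, 2, 3, 8, 7, 3, 5, 4, 3, 1, 2, 3, 8, 7, 3, 5, 4, 3, 1, 2, 3, 8, 7, 3, 5, 4, 3, 1, 2, 3, 8, 7, 3, 5, 4, 3, 1, 2, 3, 8]) = true := by decide +kernel

theorem rot7_13 : T.rot 7 [8, 3, 2, 1, 3, 4, 5, 3, 7, 8, 3, 2, 1, 3, 4, 5, 3, 7, 8, 3, 2, 1, 3, 4, 5, 3, 7, 8, 3, 2, 1, 3, 4, 5, 3, 7, 8, 3, 2, 1, 3, 4, 5, 3, 7, 8, 3, 2, 1, 3, 4, 5, 3, 7, 8, 3, 2, 1, 3, 4, 5, 3, 7, 8, 3, 2, 1, 3, 4, 5, 3, 7, 8, 3, 2, 1, 3, 4, 5, 3, 7, 8, 3, 2, 1, 3, 4, 5, 3] (sel (ones 351) ip7 13) = true := by decide +kernel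

theorem rot7_13r : band (Rule.ok (2 * 8) EX RL ⟨7 :: [8, 3, 2, 1, 3, 4, 5, 3, 7, 8, 3, 2, 1, 3, 4, 5, 3, 7, 8, 3, 2, 1, 3, 4, 5, 3, 7, 8, 3, 2, 1, 3, 4, 5, 3, 7, 8, 3, 2, 1, 3, 4, 5, 3, 7, 8, 3, 2, 1, 3, 4, 5, 3, 7, 8, 3, 2, 1, 3, 4, 5, 3, 7, 8, 3, 2, 1, 3, 4, 5, 3, 7, 8, 3, 2, 1, 3, 4, 5, 3, 7, 8, 3, 2, 1, 3, 4, 5, 3], [14, 12], 28, false⟩) (lall (memL L) [8, 3, 2, 1, 3, 4, 5, 3, 7, 8, 3, 2, 1, 3, 4, 5, 3, 7, 8, 3, 2, 1, 3, 4, 5, 3, 7, 8, 3, 2, 1, 3, 4, 5, 3, 7, 8, 3, 2, 1, 3, 4, 5, 3, 7, 8, 3, 2, 1, 3, 4, 5, 3, 7, 8, 3, 2, 1, 3, 4, 5, 3, 7, 8, 3, 2, 1, 3, 4, 5, 3, 7, 8, 3, 2, 1, 3, 4, 5, 3, 7, 8, 3, 2, 1, 3, 4, 5, 3]) = true := by decide +kernel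

theorem cov7 : T.cover 7 [(sel (ones 351) ip7 1), (sel (ones 351) ip7 2), (sel (ones 351) ip7 3), (sel (ones 351) ip7 4), (sel (ones 351) ip7 5), (sel (ones 351) ip7 6), (sel (ones 351) ip7 7), (sel (ones 351) ip7 8), (sel (ones 351) ip7 9), (sel (ones 351) ip7 10), (sel (ones 351) ip7 11), (sel (ones 351) ip7 12), (sel (ones 351) ip7 13), 1] = true := by decide +kernel

theorem tl7 : T.treeLt 9 7 = true := by decide +kernel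

theorem rot8_1 : T.rot 8 [8] (sel (ones 351) ip8 1) = true := by decide +kernel

theorem rot8_1r : band (Rule.ok (2 * 8) EX RL ⟨8 :: [8], [], 30, false⟩) (lall (memL L) [8]) = true := by decide +kernel

theorem rot8_2 : T.rot 8 [1, 8, 1] (sel (ones 351) ip8 2) = true := by decide +kernel

theorem rot8_2r : band (Rule.ok (2 * 8) EX RL ⟨8 :: [1, 8, 1], [], 6, true⟩) (lall (memL L) [1, 8, 1]) = true := by decide +kernel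

theorem rot8_3 : T.rot 8 [2, 8, 2] (sel (ones 351) ip8 3) = true := by decide +kernel

theorem rot8_3r : band (Rule.ok (2 * 8) EX RL ⟨8 :: [2, 8, 2], [], 12, true⟩) (lall (memL L) [2, 8, 2]) = true := by decide +kernel

theorem rot8_4 : T.rot 8 [3, 8, 3] (sel (ones 351) ip8 4) = true := by decide +kernel

theorem rot8_4r : band (Rule.ok (2 * 8) EX RL ⟨8 :: [3, 8, 3], [], 17, true⟩) (lall (memL L) [3, 8, 3]) = true := by decide +kernel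

theorem rot8_5 : T.rot 8 [4, 8, 4] (sel (ones 351) ip8 5) = true := by decide +kernel

theorem rot8_5r : band (Rule.ok (2 * 8) EX RL ⟨8 :: [4, 8, 4], [], 21, true⟩) (lall (memL L) [4, 8, 4]) = true := by decide +kernel

theorem rot8_6 : T.rot 8 [5, 8, 5] (sel (ones 351) ip8 6) = true := by decide +kernel

theorem rot8_6r : band (Rule.ok (2 * 8) EX RL ⟨8 :: [5, 8, 5], [], 24, true⟩) (lall (memL L) [5, 8, 5]) = true := by decide +kernel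

theorem rot8_7 : T.rot 8 [6, 8, 6] (sel (ones 351) ip8 7) = true := by decide +kernel

theorem rot8_7r : band (Rule.ok (2 * 8) EX RL ⟨8 :: [6, 8, 6], [], 26, true⟩) (lall (memL L) [6, 8, 6]) = true := by decide +kernel

theorem rot8_8 : T.rot 8 [7, 8, 7, 8, 7] (sel (ones 351) ip8 8) = true := by decide +kernel

theorem rot8_8r : band (Rule.ok (2 * 8) EX RL ⟨8 :: [7, 8, 7, 8, 7], [], 27, true⟩) (lall (memL L) [7, 8, 7, 8, 7]) = true := by decide +kernel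

theorem rot8_9 : T.rot 8 [7, 3, 5, 4, 3, 1, 2, 3, 8, 7, 3, 5, 4, 3, 1, 2, 3, 8, 7, 3, 5, 4, 3, 1, 2, 3, 8, 7, 3, 5, 4, 3, 1, 2, 3, 8, 7, 3, 5, 4, 3, 1, 2, 3, 8, 7, 3, 5, 4, 3, 1, 2, 3, 8, 7, 3, 5, 4, 3, 1, 2, 3, 8, 7, 3, 5, 4, 3, 1, 2, 3, 8, 7, 3, 5, 4, 3, 1, 2, 3, 8, 7, 3, 5, 4, 3, 1, 2, 3] (sel (ones 351) ip8 9) = true := by decide +kernel

theorem rot8_9r : band (Rule.ok (2 * 8) EX RL ⟨8 :: [7, 3, 5, 4, 3, 1, 2, 3, 8, 7, 3, 5, 4, 3, 1, 2, 3, 8, 7, 3, 5, 4, 3, 1, 2, 3, 8, 7, 3, 5, 4, 3, 1, 2, 3, 8, 7, 3, 5, 4, 3, 1, 2, 3, 8, 7, 3, 5, 4, 3, 1, 2, 3, 8, 7, 3, 5, 4, 3, 1, 2, 3, 8, 7, 3, 5, 4, 3, 1, 2, 3, 8, 7, 3, 5, 4, 3, 1, 2, 3, 8, 7, 3, 5, 4, 3, 1, 2, 3], [], 28, true⟩) (lall (memL L) [7, 3, 5, 4, 3, 1, 2, 3, 8, 7, 3, 5, 4, 3, 1, 2, 3, 8, 7, 3, 5, 4, 3, 1, 2, 3, 8, 7, 3, 5, 4, 3, 1, 2, 3, 8, 7, 3, 5, 4, 3,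 1, 2, 3, 8, 7, 3, 5, 4, 3, 1, 2, 3, 8, 7, 3, 5, 4, 3, 1, 2, 3, 8, 7, 3, 5, 4, 3, 1, 2, 3, 8, 7, 3, 5, 4, 3, 1, 2, 3, 8, 7, 3, 5, 4, 3, 1, 2, 3]) = true := by decide +kernel

theorem rot8_10 : T.rot 8 [3, 2, 1, 3, 4, 5, 3, 7, 8, 3, 2, 1, 3, 4, 5, 3, 7, 8, 3, 2, 1, 3, 4, 5, 3, 7, 8, 3, 2, 1, 3, 4, 5, 3, 7, 8, 3, 2, 1, 3, 4, 5, 3, 7, 8, 3, 2, 1, 3, 4, 5, 3, 7, 8, 3, 2, 1, 3, 4, 5, 3, 7, 8, 3, 2, 1, 3, 4, 5, 3, 7, 8, 3, 2, 1, 3, 4, 5, 3, 7, 8, 3, 2, 1, 3, 4, 5, 3, 7] (sel (ones 351) ip8 10) = true := by decide +kernel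

theorem rot8_10r : band (Rule.ok (2 * 8) EX RL ⟨8 :: [3, 2, 1, 3, 4, 5, 3, 7, 8, 3, 2, 1, 3, 4, 5, 3, 7, 8, 3, 2, 1, 3, 4, 5, 3, 7, 8, 3, 2, 1, 3, 4, 5, 3, 7, 8, 3, 2, 1, 3, 4, 5, 3, 7, 8, 3, 2, 1, 3, 4, 5, 3, 7, 8, 3, 2, 1, 3, 4, 5, 3, 7, 8, 3, 2, 1, 3, 4, 5, 3, 7, 8, 3, 2, 1, 3, 4, 5, 3, 7, 8, 3, 2, 1, 3, 4, 5, 3, 7], [14], 28, false⟩) (lall (memL L) [3, 2, 1, 3, 4, 5, 3, 7, 8, 3, 2, 1, 3, 4, 5, 3, 7, 8, 3, 2, 1, 3, 4, 5, 3, 7, 8, 3, 2, 1, 3, 4, 5, 3, 7, 8, 3, 2, 1, 3, 4, 5, 3, 7, 8, 3, 2, 1, 3, 4, 5, 3, 7, 8, 3, 2, 1, 3, 4, 5, 3, 7, 8, 3, 2, 1, 3, 4, 5, 3, 7, 8, 3, 2, 1, 3, 4, 5, 3, 7, 8, 3, 2, 1, 3, 4, 5, 3, 7]) = true := by decide +kernel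

theorem cov8 : T.cover 8 [(sel (ones 351) ip8 1), (sel (ones 351) ip8 2), (sel (ones 351) ip8 3), (sel (ones 351) ip8 4), (sel (ones 351) ip8 5), (sel (ones 351) ip8 6), (sel (ones 351) ip8 7), (sel (ones 351) ip8 8), (sel (ones 351) ip8 9), (sel (ones 351) ip8 10), 1] = true := by decide +kernel

theorem tl8 : T.treeLt 9 8 = true := by decide +kernel

theorem cov9 : T.cover 9 [1] = true := by decide +kernel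

theorem tl9 : Nat.beq (T.let 9).tt 0 = true := by decide +kernel

theorem rot10_1 : T.rot 10 [9] (sel (ones 351) ip10 1) = true := by decide +kernel

theorem rot10_1r : band (Rule.ok (2 * 8) EX RL ⟨10 :: [9], [], 30, false⟩) (lall (memL L) [9]) = true := by decide +kernel

theorem cov10 : T.cover 10 [(sel (ones 351) ip10 1)] = true := by decide +kernel

theorem tl10 : Nat.beq (T.let 10).tt 0 = true := by decide +kernel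

end Cfsg.Agent.Spor.O351
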