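import Cfsg.Agent.Spor.Rank
import Cfsg.Agent.Spor.O351.S.Main
import Cfsg.Agent.Spor.O351.L.Main
import Cfsg.Agent.Spor.O351N1.Main
import Cfsg.Agent.Spor.FiB
import Cfsg.Agent.Spor.O351A1.Main

set_option autoImplicit false
set_option maxRecDepth 100000

namespace Cfsg.Agent.Spor.O351

theorem bound : Bound 8 8 RL 4585351680 := FiB.bO7

/-- the permutation group -/
noncomputable abbrev P : Subgroup (Equiv.Perm ℕ) := gsub 8 fP
noncomputable abbrev p : ℕ → P := lift P fP

theorem lbP : 4585351680 ∣ Nat.card P := by
  rw [P, L.eG]; exact L.lb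

theorem cardP : Nat.card P = 4585351680 := Nat.dvd_antisymm (bound _ _ cert.pres) lbP

instance instFiniteP : Finite P := Nat.finite_of_card_ne_zero (by rw [cardP]; norm_num)

theorem coatomP : IsCoatom (wsub 8 p BW) :=
  cert.self.coatom (by norm_num) ((map_wsub_lift fP BW).trans S.eH)
    ((Subgroup.range_subtype _).trans S.eG) S.hX S.hXc S.hY

theorem coreP : (wsub 8 p BW).normalCore = ⊥ :=
  cert.self.core_eq_bot P.subtype_injective ((Subgroup.range_subtype P).symm ▸ S.hfix)

theorem presP : Pres 8 8 RL p := cert.pres.lift

theorem presN : Pres 8 8 (RL ++ L.XN) p := (cert.pres.append L.hXN).lift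

def AW : List (List ℕ) := [[0]]

theorem normA : ∀ x ∈ wsub 8 p BW, ∀ a ∈ wsub 8 p AW, x * a * x⁻¹ ∈ wsub 8 p AW :=
  norm_of_list presP.ivOk (I := [[[0]], [[0]], [[0]], [[0]], [[0]], [[0]], [[0]], [[0]]])
    (consAll_sound presP.ivOk presN.rel (H := [([], 31, false), ([], 1, false), ([], 2, false), ([], 3, false), ([], 4, false), ([], 5, false), ([], 6, false), ([], 30, true)]) (by decide +kernel))

theorem commA : ∀ x ∈ wsub 8 p AW, ∀ a ∈ wsub 8 p AW, x * a = a * x :=
  comm_of_list presP.ivOk (consAll_sound presP.ivOk presN.rel (H := [([], 31, false)]) (by decide +kernel))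

theorem casesP (M : Subgroup P) (hM : M.Normal) : M = ⊥ ∨ commutator P ≤ M :=
  iwasawa coatomP coreP normA commA
    (O351N1.cert.bound_nil.normalClosure presP (gsub_lift 8 fP) _ (H := [([], 0, true), ([], 1, true), ([], 2, true), ([], 3, true), ([], 4, true), ([], 5, true), ([], 6, true), ([], 7, true), ([], 8, true), ([], 9, true), ([], 10, true), ([], 11, true), ([], 12, true), ([], 13, true), ([], 14, true), ([], 15, true), ([], 16, true), ([], 17, true), ([], 18, true), ([], 19, true), ([], 20, true), ([], 21, true), ([], 22, true), ([], 23, true), ([], 24, true), ([], 25, true), ([], 26, true), ([], 27, true), ([], 28, true), ([], 29, true), ([], 30, true)]) (by decide +kernel)) M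

theorem perfectP : commutator P = ⊤ :=
  O351A1.cert.bound_nil.perfect presP (gsub_lift 8 fP) [[0], [2], [4], [6], [8], [10], [12], [14]] (H := [([], 0, true), ([], 1, true), ([], 2, true), ([], 3, true), ([], 4, true), ([], 5, true), ([], 6, true), ([], 7, true), ([], 8, true), ([], 9, true), ([], 10, true), ([], 11, true), ([], 12, true), ([], 13, true), ([], 14, true), ([], 15, true), ([], 16, true), ([], 17, true), ([], 18, true), ([], 19, true), ([], 20, true), ([], 21, true), ([], 22, true), ([], 23, true), ([], 24, true), ([], 25, true), ([], 26, true), ([], 27, true), ([], 28, true), ([], 29, true), ([], 31, true), ([], 1, true), ([], 2, true), ([], 3, true), ([], 4, true), ([], 5, true), ([], 6, true), ([], 40, true), ([], 8, true), ([], 9, true), ([], 10, true), ([], 11, true), ([], 12, true), ([], 49, true), ([], 14, true), ([], 15, true), ([], 52, true), ([], 17, true), ([], 58, true), ([], 19, true), ([], 20, true), ([], 21, true), ([], 67, true), ([], 23, true), ([], 24, true), ([], 25, true), ([], 26, true), ([], 85, true)]) (by decide +kernel)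

theorem simpleP : IsSimpleGroup P :=
  iwasawa_simple coatomP coreP normA commA
    (O351N1.cert.bound_nil.normalClosure presP (gsub_lift 8 fP) _ (H := [([], 0, true), ([], 1, true), ([], 2, true), ([], 3, true), ([], 4, true), ([], 5, true), ([], 6, true), ([], 7, true), ([], 8, true), ([], 9, true), ([], 10, true), ([], 11, true), ([], 12, true), ([], 13, true), ([], 14, true), ([], 15, true), ([], 16, true), ([], 17, true), ([], 18, true), ([], 19, true), ([], 20, true), ([], 21, true), ([], 22, true), ([], 23, true), ([], 24, true), ([], 25, true), ([], 26, true), ([], 27, true), ([], 28, true), ([], 29, true), ([], 30, true)]) (by decide +kernel)) perfectP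

end Cfsg.Agent.Spor.O351
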